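import Groth.Agent.ProjDual.K478.LowHom
import Groth.Agent.Lim.K339.FibVanish
import Groth.Agent.Ega4B.RpushCompare
import Groth.Agent.CohtopB.TopStalk
import Groth.Agent.LoccohB.AdStruct
import Groth.Agent.PerfC.RpushSingle

/-!
# `Rf_*` and `f^!` for proper morphisms with fibres of dimension `≤ r`

* `nonempty_low_push`: `H^a(Rf_* L) ≅ f_* H^a(L)` for `L ≥ a`;
* `isLE_Rpush`: `Rf_* M ≤ r` for `M` quasi-coherent;
* `isGE_of_univ`: if `L` is universal for `(f, K)` with `K ≥ 0`, then `L ≥ -r`.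
-/

set_option autoImplicit false

universe u

open CategoryTheory CategoryTheory.Limits AlgebraicGeometry Pretriangulated

attribute [local instance] HasDerivedCategory.standard

namespace K478.FibGE

open DerivedCategory Groth.Agent Groth.Agent.LoccohB.DCalc Groth.Agent.Ega1.ADualUniv K478.LowHom

variable {X Y : Scheme.{u}} (f : X ⟶ Y)

/-- `H^a(Rf_* L) ≅ f_* H^a(L)` for `L ≥ a`. -/
theorem nonempty_low_push [DCoh.HasRpush f] [HasInjectiveResolutions X.Modules] (L : DCoh.D X) (a : ℤ)
    (hL : L.IsGE a) :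
    Nonempty (DCoh.HD ((DCoh.Rpush f).obj L) a ≅ (Scheme.Modules.pushforward f).obj (DCoh.HD L a)) := by
  have hd := triangle_dist L a (a + 1) rfl
  have hGE : ((TStructure.t.truncGE (a + 1)).obj L).IsGE (a + 1) :=
    TStructure.t.isGE_truncGE_obj L (a + 1) (a + 1) le_rfl
  have h1 : IsIso ((homologyFunctor Y.Modules a).map ((DCoh.Rpush f).map ((TStructure.t.truncLEι a).app L))) :=
    PerfC.RpushTrunc.isIso_HRpush f _ _ _ hd a a le_rfl
  obtain ⟨e1⟩ := nonempty_truncLE_iso L a hL
  exact ⟨(asIso ((homologyFunctor Y.Modules a).map ((DCoh.Rpush f).map ((TStructure.t.truncLEι a).app L)))).symm ≪≫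
    (homologyFunctor Y.Modules a).mapIso ((DCoh.Rpush f).mapIso e1) ≪≫
    LoccohB.DQCohBasic.HDRpushShiftIso f (DCoh.inD X (DCoh.HD L a)) (-a) a 0 (by lia) ≪≫
    PerfC.RpushSingle.iso f 0 (DCoh.HD L a) ≪≫
    (Scheme.Modules.pushforward f).rightDerivedZeroIsoSelf.app _⟩

variable (r : ℕ) (hr : ∀ y : Y, topologicalKrullDim ↥(f.fiber y) ≤ (r : WithBot ℕ∞))

include hr in
theorem isZero_Rpush [IsProper f] [HasInjectiveResolutions X.Modules] (M : X.Modules) (hM : Coh.IsQCoh M)
    (p : ℕ) (hp : r < p) : IsZero ((Coh.Rpush f p).obj M) := by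
  rw [Ega4B.RpushCompare.isZero_rpush_iff]
  exact CohtopB.TopStalk.isZero_of_stalks _ fun y => K339.FibVanish.isZero_stalk f y r (hr y) M hM p hp

include hr in
theorem isLE_Rpush [IsProper f] [DCoh.HasRpush f] (M : X.Modules) (hM : Coh.IsQCoh M) :
    ((DCoh.Rpush f).obj (DCoh.inD X M)).IsLE (r : ℤ) := by
  have : HasInjectiveResolutions X.Modules := Dcoh.DerSch.hasInjectiveResolutions X
  rw [isLE_iff]
  intro i hi
  obtain ⟨n, rfl⟩ := Int.eq_ofNat_of_zero_le (by lia : 0 ≤ i)
  exact (isZero_Rpush f r hr M hM n (by lia)).of_iso (PerfC.RpushSingle.iso f n M)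

include hr in
/-- **Lower bound of `f^!`.** -/
theorem isGE_of_univ [IsNoetherian Y] [IsProper f] [DCoh.HasRpush f] {K : DCoh.D Y} {L : DCoh.D X}
    (h : Univ f K L) (hK : DCoh.IsQCohD K) (hKc : K.IsGE 0) : L.IsGE (-(r : ℤ)) := by
  have hX : IsNoetherian X := LoccohB.AdStruct.isNoetherian_of_finiteType f
  obtain ⟨c, hc⟩ := LoccohB.AdStruct.exists_isGE f h hK 0 hKc
  -- descending the bound
  have key : ∀ n : ℕ, L.IsGE (-(r : ℤ) - n) → L.IsGE (-(r : ℤ)) := by
    intro n
    induction n with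
    | zero => intro h0; simpa using h0
    | succ n ih =>
      intro h0
      refine ih ?_
      set q : ℤ := -(r : ℤ) - (n + 1 : ℕ) with hq
      have hz : IsZero (DCoh.HD L q) := by
        obtain ⟨e1⟩ := nonempty_truncLE_iso L q h0
        have hM : Coh.IsQCoh (DCoh.HD L q) := h.qcoh q
        let N : DCoh.D X := (DCoh.inD X (DCoh.HD L q))⟦-q⟧
        have hN : DCoh.IsQCohD N :=
          PerfA.QCohD.isQCohD_shift (PerfA.QCohD.isQCohD_inD _ hM) (-q)
        have hN' : ((DCoh.Rpush f).obj N).IsLE (-1) := by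
          rw [isLE_iff]
          intro i hi
          have h1 := isLE_Rpush f r hr (DCoh.HD L q) hM
          exact (DerivedCategory.isZero_of_isLE _ (r : ℤ) (-q + i) (by lia)).of_iso
            (LoccohB.DQCohBasic.HDRpushShiftIso f (DCoh.inD X (DCoh.HD L q)) (-q) i (-q + i) rfl)
        obtain ⟨τ, hτ⟩ := h
        let ι : N ⟶ L := e1.inv ≫ (TStructure.t.truncLEι q).app L
        have hι : ι = 0 := by
          refine hτ.hom_ext hN ?_
          have hz1 : ∀ g : (DCoh.Rpush f).obj N ⟶ K, g = 0 := fun g =>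
            TStructure.t.zero_of_isLE_of_isGE g (-1) 0 (by lia) hN' hKc
          exact (hz1 _).trans (hz1 _).symm
        have hii : IsIso ((homologyFunctor X.Modules q).map ι) := by
          have := isIso_homology_truncLEι L q q le_rfl
          rw [Functor.map_comp]
          infer_instance
        rw [hι, Functor.map_zero] at hii
        rw [IsZero.iff_id_eq_zero]
        have h2 : (0 : (homologyFunctor X.Modules q).obj N ⟶ (homologyFunctor X.Modules q).obj L) ≫
            𝟙 _ = 0 := by simp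
        rw [← cancel_epi (0 : (homologyFunctor X.Modules q).obj N ⟶ (homologyFunctor X.Modules q).obj L)]
        simp
      rw [isGE_iff]
      intro i hi
      rcases eq_or_lt_of_le (show i ≤ q by lia) with rfl | hlt
      · exact hz
      · exact DerivedCategory.isZero_of_isGE L q i hlt
  by_cases hcr : -(r : ℤ) ≤ c
  · rw [isGE_iff] at hc ⊢
    exact fun i hi => hc i (by lia)
  · obtain ⟨n, hn⟩ := Int.eq_ofNat_of_zero_le (by lia : 0 ≤ -(r : ℤ) - c)
    refine key n ?_
    have : -(r : ℤ) - n = c := by lia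
    rw [this]
    exact hc

end K478.FibGE
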