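import Groth.Agent.Dual.H339.DualBound
import Groth.Agent.PerfC.RHomShift
import Groth.Agent.Htor.H255.ExtRD
import Groth.Agent.Dual3.K477.SheafDual

/-!
# The lowest cohomology sheaf of `RHom`

* `nonempty_rhShift₂`: `RHom(K, L[n]) ≅ RHom(K, L)[n]`;
* `nonempty_low`: `H^a RHom(F, L) ≅ Hom(F, H^a L)` for `F` a module and `L ≥ a`;
* `nonempty_top`: `H^{-b} RHom(Q, G) ≅ Hom(H^b Q, G)` for `Q ≤ b` and `G` a module.
-/

set_option autoImplicit false

universe w v u

open CategoryTheory CategoryTheory.Limits AlgebraicGeometry Pretriangulated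

attribute [local instance] HasDerivedCategory.standard

namespace K478.LowHom

open DerivedCategory Groth.Agent.LoccohB.DCalc Groth.Agent.Dual.H339.DualBound

section Abstract

variable {A : Type u} [Category.{v} A] [Abelian A] [HasDerivedCategory.{w} A]

lemma bijective_truncLEι {N L : DerivedCategory A} {n : ℤ} (hN : N.IsLE n) :
    Function.Bijective (fun g : N ⟶ (TStructure.t.truncLE n).obj L => g ≫ (TStructure.t.truncLEι n).app L) := by
  have : TStructure.t.IsLE N n := hN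
  exact ⟨fun _ _ h => TStructure.t.to_truncLE_obj_ext h,
    fun f => ⟨TStructure.t.liftTruncLE f n, TStructure.t.liftTruncLE_ι f n⟩⟩

/-- `h : G ⟶ X` inducing bijections `Hom(N, G) → Hom(N, X)` for `N ≤ n` is an isomorphism on `Hⁿ`. -/
lemma isIso_homology' {G X : DerivedCategory A} (n : ℤ) (h : G ⟶ X)
    (hb : ∀ N : DerivedCategory A, N.IsLE n → Function.Bijective (fun g : N ⟶ G => g ≫ h)) :
    IsIso ((homologyFunctor A n).map h) := by
  let j := (TStructure.t.truncLEι n).app G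
  have hj : IsIso ((homologyFunctor A n).map j) := isIso_homology_truncLEι G n n le_rfl
  have hG : ((TStructure.t.truncLE n).obj G).IsLE n := TStructure.t.isLE_truncLE_obj G n n le_rfl
  have h2 : IsIso ((homologyFunctor A n).map (j ≫ h)) := by
    refine isIso_homology n hG (j ≫ h) fun N hN => ?_
    have e : (fun g : N ⟶ (TStructure.t.truncLE n).obj G => g ≫ j ≫ h) =
        (fun g : N ⟶ G => g ≫ h) ∘ (fun g : N ⟶ (TStructure.t.truncLE n).obj G => g ≫ j) := by
      funext g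
      exact (Category.assoc _ _ _).symm
    rw [e]
    exact (hb N hN).comp (bijective_truncLEι hN)
  rw [Functor.map_comp] at h2
  exact IsIso.of_isIso_comp_left ((homologyFunctor A n).map j) _

/-- Composition with the image of a morphism under a right adjoint. -/
lemma bijective_comp_map {D E : Type*} [Category* D] [Category* E] {F : D ⥤ E} {R : E ⥤ D} (adj : F ⊣ R)
    {N : D} {L L' : E} (j : L ⟶ L') (h : Function.Bijective (fun g : F.obj N ⟶ L => g ≫ j)) :
    Function.Bijective (fun g : N ⟶ R.obj L => g ≫ R.map j) := by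
  have e : (fun g : N ⟶ R.obj L => g ≫ R.map j) =
      (adj.homEquiv N L') ∘ (fun g : F.obj N ⟶ L => g ≫ j) ∘ (adj.homEquiv N L).symm := by
    funext g
    simp only [Function.comp_apply, Adjunction.homEquiv_naturality_right, Equiv.apply_symm_apply]
  rw [e]
  exact (Equiv.bijective _).comp (h.comp (Equiv.bijective _))

/-- Comparison of right adjoints along a transformation of left adjoints. -/
lemma exists_mate {D E : Type*} [Category* D] [Category* E] {F₁ F₂ : D ⥤ E} {R₁ R₂ : E ⥤ D} (adj₁ : F₁ ⊣ R₁)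
    (adj₂ : F₂ ⊣ R₂) (α : F₂ ⟶ F₁) (G : E) :
    ∃ h : R₁.obj G ⟶ R₂.obj G, ∀ N : D, Function.Bijective (fun g : F₁.obj N ⟶ G => α.app N ≫ g) →
      Function.Bijective (fun g : N ⟶ R₁.obj G => g ≫ h) := by
  let ε : F₁.obj (R₁.obj G) ⟶ G := adj₁.counit.app G
  refine ⟨adj₂.homEquiv _ _ (α.app _ ≫ ε), fun N hN => ?_⟩
  have e : (fun g : N ⟶ R₁.obj G => g ≫ adj₂.homEquiv _ _ (α.app _ ≫ ε)) =
      (adj₂.homEquiv N G) ∘ (fun g : F₁.obj N ⟶ G => α.app N ≫ g) ∘ (adj₁.homEquiv N G).symm := by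
    funext g
    simp only [Function.comp_apply]
    rw [← Adjunction.homEquiv_naturality_left, Adjunction.homEquiv_counit, α.naturality_assoc]
  rw [e]
  exact (Equiv.bijective _).comp (hN.comp (Equiv.bijective _))

/-- The highest truncation. -/
lemma exists_top (T : DerivedCategory A) (hT : T.IsLE 0) :
    ∃ (T' : DerivedCategory A) (_ : T'.IsLE (-1)) (f : T' ⟶ T)
      (c : T ⟶ (singleFunctor A 0).obj ((homologyFunctor A 0).obj T))
      (δ : (singleFunctor A 0).obj ((homologyFunctor A 0).obj T) ⟶ T'⟦(1 : ℤ)⟧),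
      Triangle.mk f c δ ∈ distTriang (DerivedCategory A) := by
  have hd := triangle_dist T (-1) 0 (by lia)
  let G0 : DerivedCategory A := (TStructure.t.truncGE 0).obj T
  have hG0 : G0.IsGE 0 := TStructure.t.isGE_truncGE_obj T 0 0 le_rfl
  have hG0' : G0.IsLE 0 := by
    rw [isLE_iff]
    intro j hj
    have := isIso_homology_truncGEπ T 0 j hj.le
    exact (isZero_of_isLE T 0 j hj).of_iso (asIso ((homologyFunctor A j).map
      ((TStructure.t.truncGEπ 0).app T))).symm
  obtain ⟨e1⟩ := exists_iso_single G0 0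
  have := isIso_homology_truncGEπ T 0 0 le_rfl
  let e2 : (homologyFunctor A 0).obj G0 ≅ (homologyFunctor A 0).obj T :=
    (asIso ((homologyFunctor A 0).map ((TStructure.t.truncGEπ 0).app T))).symm
  let e3 : G0 ≅ (singleFunctor A 0).obj ((homologyFunctor A 0).obj T) := e1 ≪≫ (singleFunctor A 0).mapIso e2
  exact ⟨(TStructure.t.truncLE (-1)).obj T, TStructure.t.isLE_truncLE_obj T (-1) (-1) le_rfl,
    _, _, _, dist_of_iso₃ _ hd e3⟩

/-- The lowest truncation. -/
lemma nonempty_truncLE_iso (L : DerivedCategory A) (a : ℤ) (hL : L.IsGE a) :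
    Nonempty ((TStructure.t.truncLE a).obj L ≅
      ((singleFunctor A 0).obj ((homologyFunctor A a).obj L))⟦-a⟧) := by
  have h1 : ((TStructure.t.truncLE a).obj L).IsLE a := TStructure.t.isLE_truncLE_obj L a a le_rfl
  have h2 : ((TStructure.t.truncLE a).obj L).IsGE a := by
    rw [isGE_iff]
    intro j hj
    have := isIso_homology_truncLEι L a j hj.le
    exact (isZero_of_isGE L a j hj).of_iso (asIso ((homologyFunctor A j).map ((TStructure.t.truncLEι a).app L)))
  obtain ⟨e1⟩ := exists_iso_single ((TStructure.t.truncLE a).obj L) a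
  have := isIso_homology_truncLEι L a a le_rfl
  let e2 : (homologyFunctor A a).obj ((TStructure.t.truncLE a).obj L) ≅ (homologyFunctor A a).obj L :=
    asIso ((homologyFunctor A a).map ((TStructure.t.truncLEι a).app L))
  have e3 : (singleFunctor A a).obj ((homologyFunctor A a).obj L) ≅
      ((singleFunctor A 0).obj ((homologyFunctor A a).obj L))⟦-a⟧ :=
    (((singleFunctors A).shiftIso (-a) a 0 (by lia)).symm.app _)
  exact ⟨e1 ≪≫ (singleFunctor A a).mapIso e2 ≪≫ e3⟩

end Abstract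

section RH

open Groth.Agent.PerfC.DTens Groth.Agent.PerfC.RHomD Groth.Agent.PerfC.IsoLocus
  Groth.Agent.PerfC.RHomBnd556 Groth.Agent.PerfC.LpullTens Groth.Agent.K477.SheafDual
  Groth.Agent.Dcoh.MonClosed Groth.Agent.Htor.H255.ExtRD

variable {X : Scheme.{u}}

/-- `RHom(K, L[n]) ≅ RHom(K, L)[n]`. -/
theorem nonempty_rhShift₂ (K L : DCoh.D X) (n : ℤ) :
    Nonempty ((RH K).obj (L⟦n⟧) ≅ ((RH K).obj L)⟦n⟧) := by
  obtain ⟨_, _⟩ := isTriang_LTX_obj K
  let e : shiftFunctor (DCoh.D X) (-n) ⋙ (LTX X).obj K ≅ (LTX X).obj K ⋙ shiftFunctor (DCoh.D X) (-n) :=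
    ((LTX X).obj K).commShiftIso (-n)
  let sh : shiftFunctor (DCoh.D X) (-n) ⊣ shiftFunctor (DCoh.D X) n :=
    (shiftEquiv (DCoh.D X) n).symm.toAdjunction
  let a1 := sh.comp (rhAdj' K)
  let a2 := (rhAdj' K).comp sh
  exact ⟨((a2.ofNatIsoLeft e.symm).rightAdjointUniq a1).app L⟩

theorem hd_shift (K : DCoh.D X) (n i j : ℤ) (h : n + i = j) : Nonempty (DCoh.HD (K⟦n⟧) i ≅ DCoh.HD K j) :=
  ⟨((homologyFunctor X.Modules 0).shiftIso n i j h).app K⟩

variable [HasInjectiveResolutions X.Modules]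

/-- `H⁰ RHom(F, G) ≅ Hom(F, G)`. -/
theorem nonempty_zero (F G : X.Modules) :
    Nonempty (DCoh.HD ((RH (DCoh.inD X F)).obj (DCoh.inD X G)) 0 ≅ (homFunctor F).obj G) := by
  obtain ⟨e⟩ := nonempty_ext F G 0 0 rfl
  exact ⟨(homologyFunctor X.Modules 0).mapIso (rhIso ((singleFunctorIsoCompQ X.Modules 0).app F) _) ≪≫ e ≪≫
    (homFunctor F).rightDerivedZeroIsoSelf.app G⟩

/-- **Lowest cohomology**, module in the first variable. -/
theorem nonempty_low (F : X.Modules) (L : DCoh.D X) (a : ℤ) (hL : L.IsGE a) :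
    Nonempty (DCoh.HD ((RH (DCoh.inD X F)).obj L) a ≅ (homFunctor F).obj (DCoh.HD L a)) := by
  have hF : (DCoh.inD X F).IsLE 0 := inferInstance
  let j := (TStructure.t.truncLEι a).app L
  have h1 : IsIso ((homologyFunctor X.Modules a).map ((RH (DCoh.inD X F)).map j)) := by
    refine isIso_homology' a _ fun N hN => bijective_comp_map (rhAdj (DCoh.inD X F)) j ?_
    refine bijective_truncLEι ?_
    have := isLE_LTX N (DCoh.inD X F) a 0
    simpa using this
  obtain ⟨e1⟩ := nonempty_truncLE_iso L a hL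
  obtain ⟨e2⟩ := nonempty_rhShift₂ (DCoh.inD X F) (DCoh.inD X (DCoh.HD L a)) (-a)
  obtain ⟨e3⟩ := hd_shift ((RH (DCoh.inD X F)).obj (DCoh.inD X (DCoh.HD L a))) (-a) a 0 (by lia)
  obtain ⟨e4⟩ := nonempty_zero F (DCoh.HD L a)
  exact ⟨(asIso ((homologyFunctor X.Modules a).map ((RH (DCoh.inD X F)).map j))).symm ≪≫
    (homologyFunctor X.Modules a).mapIso ((RH (DCoh.inD X F)).mapIso e1 ≪≫ e2) ≪≫ e3 ≪≫ e4⟩

/-- **Lowest cohomology**, complex `≤ 0` in the first variable. -/
theorem nonempty_top_zero (Q : DCoh.D X) (hQ : Q.IsLE 0) (G : X.Modules) :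
    Nonempty (DCoh.HD ((RH Q).obj (DCoh.inD X G)) 0 ≅ (homFunctor (DCoh.HD Q 0)).obj G) := by
  obtain ⟨T', hT', f, c, δ, hd⟩ := exists_top Q hQ
  obtain ⟨h, hh⟩ := exists_mate (rhAdj (DCoh.inD X (DCoh.HD Q 0))) (rhAdj Q) ((LTX X).flip.map c) (DCoh.inD X G)
  have hG : (DCoh.inD X G).IsGE 0 := inferInstance
  have h1 : IsIso ((homologyFunctor X.Modules 0).map h) :=
    isIso_homology' 0 h fun N hN => hh N (bijective_tensor N 0 hN _ hd hT' _ hG)
  obtain ⟨e⟩ := nonempty_zero (DCoh.HD Q 0) G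
  exact ⟨(asIso ((homologyFunctor X.Modules 0).map h)).symm ≪≫ e⟩

omit [HasInjectiveResolutions X.Modules] in
theorem nonempty_homFunctor_iso {F F' : X.Modules} (e : F ≅ F') (G : X.Modules) :
    Nonempty ((homFunctor F).obj G ≅ (homFunctor F').obj G) :=
  ⟨(((flipAdj F).ofNatIsoLeft ((DCoh.tensorBi (X := X)).flip.mapIso e)).rightAdjointUniq (flipAdj F')).app G⟩

/-- **Lowest cohomology**, complex in the first variable. -/
theorem nonempty_top (Q : DCoh.D X) (b : ℤ) (hQ : Q.IsLE b) (G : X.Modules) :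
    Nonempty (DCoh.HD ((RH Q).obj (DCoh.inD X G)) (-b) ≅ (homFunctor (DCoh.HD Q b)).obj G) := by
  have hQ' : (Q⟦b⟧).IsLE 0 := isLE_shift b b 0 hQ (by lia)
  obtain ⟨e1⟩ := Groth.Agent.PerfC.RHomShift.nonempty_rhShift Q (DCoh.inD X G) b
  obtain ⟨e2⟩ := nonempty_rhShift₂ Q (DCoh.inD X G) (-b)
  obtain ⟨e3⟩ := hd_shift ((RH Q).obj (DCoh.inD X G)) (-b) 0 (-b) (by lia)
  obtain ⟨e4⟩ := hd_shift Q b 0 b (by lia)
  obtain ⟨e5⟩ := nonempty_homFunctor_iso e4 G
  obtain ⟨e6⟩ := nonempty_top_zero (Q⟦b⟧) hQ' G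
  exact ⟨e3.symm ≪≫ (homologyFunctor X.Modules 0).mapIso (e1 ≪≫ e2).symm ≪≫ e6 ≪≫ e5⟩

end RH

end K478.LowHom
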