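import Groth.Agent.S1824
import Groth.Agent.S1766
import Groth.Agent.Dual.H307.BcGen
import Groth.Agent.Dual.H379.TwistMain
import Groth.Agent.Dual.H323.FibreHom
import Groth.Agent.PerfB.FibreZero
import Groth.Agent.PerfA.PcFlatPush
import Groth.Agent.Krr.H446.PnBasic
import Groth.Agent.Ega3B.ProjProper
import Groth.Agent.LoccohB.AdStruct
import Groth.Agent.Sga5.ProjSmooth

/-!
# `π^! G = (ω ⊗ π^* G)[n]` for `π : P^n_Y → Y`
-/

set_option autoImplicit false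

universe u

open CategoryTheory CategoryTheory.Limits AlgebraicGeometry MonoidalCategory

attribute [local instance] HasDerivedCategory.standard

open scoped Groth.Agent.Dcoh.MonCat Groth.Agent.Dcoh.ModD

namespace K478.PnShriek

open Groth.Agent Groth.Agent.Ega1.ADualUniv Groth.Agent.PerfC.DTens

variable {X : Scheme.{u}}

/-- tensor product of complexes in degree `0`. -/
theorem nonempty_single_tens (F L : X.Modules)
    {G : CochainComplex X.Modules ℤ ⥤ CochainComplex X.Modules ℤ ⥤ CochainComplex X.Modules ℤ}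
    (hG : G = (DCoh.tensorBi (X := X)).map₂CochainComplex) :
    Nonempty ((G.obj ((HomologicalComplex.single X.Modules (ComplexShape.up ℤ) 0).obj F)).obj
        ((HomologicalComplex.single X.Modules (ComplexShape.up ℤ) 0).obj L) ≅
      (HomologicalComplex.single X.Modules (ComplexShape.up ℤ) 0).obj
        ((DCoh.tensorBi.obj F).obj L)) := by
  subst hG
  have : ((DCoh.tensorBi (X := X)).flip.obj L).Additive := ⟨fun {M N f g} => by
    change (DCoh.tensorBi.map (f + g)).app L = _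
    rw [DCoh.tensorBi.map_add]
    rfl⟩
  exact ⟨((Dcoh.TensSingle.singleRightIso DCoh.tensorBi L).symm.app _) ≪≫
    (HomologicalComplex.singleMapHomologicalComplex (DCoh.tensorBi.flip.obj L) (ComplexShape.up ℤ) 0).app F⟩

theorem nonempty_tens_zero (F L : X.Modules) (hL : FlatMod.IsFinLocFree L) :
    Nonempty (DCoh.inD X F ⊗ DCoh.inD X L ≅ DCoh.inD X ((DCoh.tensorBi.obj F).obj L)) := by
  obtain ⟨e⟩ := nonempty_single_tens F L tensorCx_eq
  have hk : DCoh.IsKFlat ((HomologicalComplex.single X.Modules (ComplexShape.up ℤ) 0).obj L) :=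
    PerfB.LpullKit.isKFlat_of_isStrictlyPerfect (PerfB.FibreZero.isStrictlyPerfect_cx 0 hL)
  let s := DerivedCategory.singleFunctorIsoCompQ X.Modules 0
  exact ⟨(s.app F ⊗ᵢ s.app L) ≪≫ Dcoh.ModTens.tensorIso _ _ hk ≪≫ DerivedCategory.Q.mapIso e ≪≫ (s.app _).symm⟩

theorem nonempty_tens (F L : X.Modules) (hL : FlatMod.IsFinLocFree L) (n : ℤ) :
    Nonempty (DCoh.inD X F ⊗ (DCoh.inD X L)⟦n⟧ ≅ (DCoh.inD X ((DCoh.tensorBi.obj F).obj L))⟦n⟧) := by
  obtain ⟨e1⟩ := Dual.H323.FibreHom.nonempty_tensor_shift (DCoh.inD X F) (DCoh.inD X L) n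
  obtain ⟨e2⟩ := nonempty_tens_zero F L hL
  exact ⟨e1 ≪≫ (shiftFunctor _ n).mapIso e2⟩

section Pn

variable (n : ℕ)

theorem univ_int [DCoh.HasRpush (CohB1.ProjSpace.toSpec n (ULift.{u} ℤ))] :
    Univ (CohB1.ProjSpace.toSpec n (ULift.{u} ℤ))
      (DCoh.inD _ (Coh.structureModule (Spec (CommRingCat.of (ULift.{u} ℤ)))))
      ((DCoh.inD _ (Twist.twistProjSpace n (ULift.{u} ℤ) (-((n : ℤ) + 1))))⟦(n : ℤ)⟧) := by
  have hp : IsProper (CohB1.ProjSpace.toSpec n (ULift.{u} ℤ)) := Ega3B.ProjProper.isProper_toSpec n _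
  have hcX : CompactSpace (CohB1.ProjSpace n (ULift.{u} ℤ)) :=
    QuasiCompact.compactSpace_of_compactSpace (CohB1.ProjSpace.toSpec n (ULift.{u} ℤ))
  have hsX : (CohB1.ProjSpace n (ULift.{u} ℤ)).IsSeparated := ⟨by
    rw [← terminal.comp_from (CohB1.ProjSpace.toSpec n (ULift.{u} ℤ))]
    infer_instance⟩
  have h : ∀ K : DCoh.D (CohB1.ProjSpace n (ULift.{u} ℤ)), DCoh.IsQCohD K →
      DCoh.IsQCohD ((DCoh.Rpush (CohB1.ProjSpace.toSpec n (ULift.{u} ℤ))).obj K) :=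
    fun K hK => S0998.result _ K hK
  have hl := S1766.result _ _ (CohB1.ProjSpace.toSpec n (ULift.{u} ℤ)) h
  let adj := Adjunction.ofIsLeftAdjoint (ObjectProperty.lift DCoh.IsQCohD
    (ObjectProperty.ι DCoh.IsQCohD ⋙ DCoh.Rpush (CohB1.ProjSpace.toSpec n (ULift.{u} ℤ)))
      (fun K => h K.obj K.property))
  let O : DCoh.DQCoh (Spec (CommRingCat.of (ULift.{u} ℤ))) :=
    ⟨DCoh.inD _ (Coh.structureModule _), PerfA.QCohD.isQCohD_inD _ (PerfA.QCohSerre.isQCoh_unit _)⟩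
  obtain ⟨e⟩ := S1824.result n (ULift.{u} ℤ) h _ adj O ⟨Iso.refl _⟩
  have hu := univ_of_adj adj O
  exact hu.of_iso_left e (PerfA.QCohD.isQCohD_of_iso e hu.qcoh)


variable (Y : Scheme.{u})

theorem flat_toBase : Flat (CohB1.ProjSpaceOver.toBase n Y) := by
  have h1 : Smooth (CohB1.ProjSpace.toSpec n (ULift.{u} ℤ)) :=
    SmoothOfRelativeDimension.smooth n (CohB1.ProjSpace.toSpec n (ULift.{u} ℤ))
  have h2 : Flat (CohB1.ProjSpace.toSpec n (ULift.{u} ℤ)) := inferInstance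
  exact inferInstanceAs (Flat (pullback.snd (CohB1.ProjSpace.toSpec n (ULift.{u} ℤ))
    (specULiftZIsTerminal.from Y)))

theorem isProper_toBase : IsProper (CohB1.ProjSpaceOver.toBase n Y) := by
  have h := Ega3B.ProjProper.isProper_toSpec n (ULift.{u} ℤ)
  exact inferInstanceAs (IsProper (pullback.snd (CohB1.ProjSpace.toSpec n (ULift.{u} ℤ))
    (specULiftZIsTerminal.from Y)))

/-- `π^! O_Y = ω[n]` for `π : P^n_Y → Y`. -/
theorem univ_structure [IsNoetherian Y] [DCoh.HasRpush (CohB1.ProjSpaceOver.toBase n Y)] :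
    Univ (CohB1.ProjSpaceOver.toBase n Y) (DCoh.inD Y (Coh.structureModule Y))
      ((DCoh.inD _ (Twist.twistOver n Y (-((n : ℤ) + 1))))⟦(n : ℤ)⟧) := by
  have hR := Dcoh.DerSch.hasRpush (CohB1.ProjSpace.toSpec n (ULift.{u} ℤ))
  have hp : IsProper (CohB1.ProjSpace.toSpec n (ULift.{u} ℤ)) := Ega3B.ProjProper.isProper_toSpec n _
  have h1 : Smooth (CohB1.ProjSpace.toSpec n (ULift.{u} ℤ)) :=
    SmoothOfRelativeDimension.smooth n (CohB1.ProjSpace.toSpec n (ULift.{u} ℤ))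
  have hfl : Flat (CohB1.ProjSpace.toSpec n (ULift.{u} ℤ)) := inferInstance
  have hcX : CompactSpace (CohB1.ProjSpace n (ULift.{u} ℤ)) :=
    QuasiCompact.compactSpace_of_compactSpace (CohB1.ProjSpace.toSpec n (ULift.{u} ℤ))
  have hsX : (CohB1.ProjSpace n (ULift.{u} ℤ)).IsSeparated := ⟨by
    rw [← terminal.comp_from (CohB1.ProjSpace.toSpec n (ULift.{u} ℤ))]
    infer_instance⟩
  have hpB := isProper_toBase n Y
  have hN : IsNoetherian (CohB1.ProjSpaceOver n Y) :=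
    LoccohB.AdStruct.isNoetherian_of_finiteType (CohB1.ProjSpaceOver.toBase n Y)
  let g : Y ⟶ Spec (CommRingCat.of (ULift.{u} ℤ)) := specULiftZIsTerminal.from Y
  let g' : CohB1.ProjSpaceOver n Y ⟶ CohB1.ProjSpace n (ULift.{u} ℤ) :=
    pullback.fst (CohB1.ProjSpace.toSpec n (ULift.{u} ℤ)) (specULiftZIsTerminal.from Y)
  have hsq : IsPullback g' (CohB1.ProjSpaceOver.toBase n Y) (CohB1.ProjSpace.toSpec n (ULift.{u} ℤ)) g :=
    IsPullback.of_hasPullback _ _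
  have hL1 := PerfB.LpullKit.hasLpull g
  have hL2 := PerfB.LpullKit.hasLpull g'
  have h := Dual.H307.BcGen.univ_bc (Or.inl hfl) hsq
    (fun P hP => PerfA.PcFlatPush.isPerfect_Rpush _ P hP)
    (PerfA.QCohD.isQCohD_inD _ (PerfA.QCohSerre.isQCoh_unit _)) (univ_int n)
  have h1 := h.of_iso_right (PerfB.FibreZero.lpullStructure g)
  obtain ⟨_⟩ := PerfB.LpullKit.hasLpull g'
  obtain ⟨_, _⟩ := PerfC.ProjAbs291.isTriang_Lpull g'
  let e : (DCoh.Lpull g').obj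
      ((DCoh.inD _ (Twist.twistProjSpace n (ULift.{u} ℤ) (-((n : ℤ) + 1))))⟦(n : ℤ)⟧) ≅
      (DCoh.inD _ (Twist.twistOver n Y (-((n : ℤ) + 1))))⟦(n : ℤ)⟧ :=
    ((DCoh.Lpull g').commShiftIso (n : ℤ)).app _ ≪≫ (shiftFunctor _ (n : ℤ)).mapIso
      (PerfB.FibreConc.lpullSg g' 0 (PerfB.FibreConc.isFinLocFree_of_rank (Ega2.QCohLocal.isFinLocFreeOfRank_one_iff.2
        (Ega3B.ProjTwist.isInvertible_twistProjSpace n (ULift.{u} ℤ) _))))
  exact h1.of_iso_left e (PerfA.QCohD.isQCohD_of_iso e h1.qcoh)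

/-- `Lf^* (G[0]) = (f^* G)[0]` for `f` flat. -/
theorem nonempty_Lpull_inD {X Y : Scheme.{u}} (f : X ⟶ Y) [Flat f] [DCoh.HasLpull f] (G : Y.Modules) :
    Nonempty ((DCoh.Lpull f).obj (DCoh.inD Y G) ≅ DCoh.inD X ((Scheme.Modules.pullback f).obj G)) := by
  have := PerfB.FlatPull.preservesFiniteLimits_pullback f
  exact ⟨(DCoh.Lpull f).mapIso ((DerivedCategory.singleFunctorIsoCompQ Y.Modules 0).app G) ≪≫
    Dcoh.DerPull.lpullFlatQIso f _ ≪≫
    DerivedCategory.Q.mapIso ((HomologicalComplex.singleMapHomologicalComplex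
      (Scheme.Modules.pullback f) (ComplexShape.up ℤ) 0).app G) ≪≫
    ((DerivedCategory.singleFunctorIsoCompQ X.Modules 0).app _).symm⟩

/-- `f^! K = Lf^* K ⊗ f^! O` for `f` proper flat. -/
theorem exists_tensor {X Y : Scheme.{u}} [CompactSpace X] [QuasiSeparatedSpace X] [CompactSpace Y]
    [QuasiSeparatedSpace Y] (f : X ⟶ Y) [DCoh.HasRpush f] [DCoh.HasLpull f]
    (hperf : ∀ P : DCoh.D X, DCoh.IsPerfect P → DCoh.IsPerfect ((DCoh.Rpush f).obj P))
    {A : DCoh.D X} (hA : Univ f (DCoh.inD Y (Coh.structureModule Y)) A) {K : DCoh.D Y} (hK : DCoh.IsQCohD K) :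
    Univ f K ((DCoh.Lpull f).obj K ⊗ A) := by
  have hf : DCoh.RpushPreservesQCoh f := fun K hK => S0998.result f K hK
  have hl := S1766.result X Y f hf
  have adj : DCoh.RpushQ f hf ⊣ (DCoh.RpushQ f hf).rightAdjoint := Adjunction.ofIsLeftAdjoint _
  have h1 := Dual.H379.TwistMain.isIso_θ f hf adj hperf ⟨K, hK⟩
  have h2 : Univ f K ((DCoh.RpushQ f hf).rightAdjoint.obj ⟨K, hK⟩).obj :=
    univ_of_adj (h := hf) adj ⟨K, hK⟩
  have h3 : Univ f (𝟙_ (DCoh.D Y)) ((DCoh.RpushQ f hf).rightAdjoint.obj (𝟙_ (DCoh.DQCoh Y))).obj :=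
    univ_of_adj (h := hf) adj (𝟙_ (DCoh.DQCoh Y))
  obtain ⟨e⟩ := (h3.of_iso_right (Dcoh.DualX.unitIso Y).symm).unique hA
  have e1 := (ObjectProperty.ι _).mapIso (asIso ((Dual.H379.TwistMain.θ f hf adj).app ⟨K, hK⟩))
  refine h2.of_iso_left (e1.symm ≪≫ (Iso.refl _ ⊗ᵢ e)) (PerfA.QCohD.isQCohD_of_iso (e1.symm ≪≫ (Iso.refl _ ⊗ᵢ e)) h2.qcoh)

/-- **Relative duality for `P^n_Y`**: `π^! G = (ω ⊗ π^* G)[n]`. -/
theorem univ_twist [IsNoetherian Y] [DCoh.HasRpush (CohB1.ProjSpaceOver.toBase n Y)] (G : Y.Modules)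
    (hG : Coh.IsQCoh G) :
    Univ (CohB1.ProjSpaceOver.toBase n Y) (DCoh.inD Y G)
      ((DCoh.inD _ (CohB1.tensorMod (Twist.twistOver n Y (-((n : ℤ) + 1)))
        ((Scheme.Modules.pullback (CohB1.ProjSpaceOver.toBase n Y)).obj G)))⟦(n : ℤ)⟧) := by
  have hp := isProper_toBase n Y
  have hfl := flat_toBase n Y
  have hN : IsNoetherian (CohB1.ProjSpaceOver n Y) :=
    LoccohB.AdStruct.isNoetherian_of_finiteType (CohB1.ProjSpaceOver.toBase n Y)
  have hL := PerfB.LpullKit.hasLpull (CohB1.ProjSpaceOver.toBase n Y)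
  have h := exists_tensor (CohB1.ProjSpaceOver.toBase n Y)
    (fun P hP => PerfA.PcFlatPush.isPerfect_Rpush _ P hP) (univ_structure n Y)
    (PerfA.QCohD.isQCohD_inD G hG)
  obtain ⟨e1⟩ := nonempty_Lpull_inD (CohB1.ProjSpaceOver.toBase n Y) G
  obtain ⟨e2⟩ := nonempty_tens ((Scheme.Modules.pullback (CohB1.ProjSpaceOver.toBase n Y)).obj G)
    (Twist.twistOver n Y (-((n : ℤ) + 1))) (Krr.H446.PnBasic.isFinLocFree_twistOver n Y _) (n : ℤ)
  have e3 := (e1 ⊗ᵢ Iso.refl _) ≪≫ e2 ≪≫ (shiftFunctor _ (n : ℤ)).mapIso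
    ((DerivedCategory.singleFunctor _ 0).mapIso (Ega2.Tens.swap _ _))
  exact h.of_iso_left e3 (PerfA.QCohD.isQCohD_of_iso e3 h.qcoh)

end Pn

end K478.PnShriek
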