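import Groth.Agent.ProjDual.K478.FibGE
import Groth.Agent.ProjDual.K478.PnShriek
import Groth.Agent.ProjDual.K274.ShBridge
import Groth.Agent.CohqA.ClosedPush
import Groth.Agent.PerfC.RpushCoh
import Groth.Agent.PerfB.BCFrozen280

/-!
# Relative duality for closed subschemes of `P^n_Y`

* `homPush`: `Hom(B, f_* E) ≅ f_* Hom(f^* B, E)`; `homPushClosed`: `Hom(e_* F, e_* E) ≅ e_* Hom(F, E)`;
* `nonempty_top_push`: `f_* Hom(F, H^{-r} f^! G) ≅ Hom(R^r f_* F, G)` for fibres of dimension `≤ r`;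
* `nonempty_ext_push`: `e_* H^{-r}(e^! N[n]) ≅ Ext^{n-r}(e_* O, N)`.
-/

set_option autoImplicit false

universe u

open CategoryTheory CategoryTheory.Limits AlgebraicGeometry MonoidalCategory

attribute [local instance] HasDerivedCategory.standard

open scoped Groth.Agent.Dcoh.MonCat

namespace K478.RelDual

open DerivedCategory Groth.Agent Groth.Agent.Ega1.ADualUniv K478.LowHom K478.FibGE
  Groth.Agent.Dcoh.MonClosed Groth.Agent.Htor.H255.ExtRD Groth.Agent.PerfC.RHomD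
  Groth.Agent.PerfC.RHomBnd556

variable {X Y : Scheme.{u}} (f : X ⟶ Y)

/-- `Hom(B, f_* E) ≅ f_* Hom(f^* B, E)`. -/
noncomputable def homPush (B : Y.Modules) :
    Scheme.Modules.pushforward f ⋙ homFunctor B ≅
      homFunctor ((Scheme.Modules.pullback f).obj B) ⋙ Scheme.Modules.pushforward f :=
  Adjunction.rightAdjointUniq
    (((flipAdj B).comp (Scheme.Modules.pullbackPushforwardAdjunction f)).ofNatIsoLeft
      (PerfB.BCFrozen280.pullTensFlip f B))
    ((Scheme.Modules.pullbackPushforwardAdjunction f).comp (flipAdj ((Scheme.Modules.pullback f).obj B)))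

/-- `Hom(e_* F, e_* E) ≅ e_* Hom(F, E)`. -/
theorem nonempty_homPushClosed (e : X ⟶ Y) [IsClosedImmersion e] (F E : X.Modules) :
    Nonempty ((homFunctor ((Scheme.Modules.pushforward e).obj F)).obj ((Scheme.Modules.pushforward e).obj E) ≅
      (Scheme.Modules.pushforward e).obj ((homFunctor F).obj E)) := by
  have := CohqA.ClosedPush.full (i := e)
  have := CohqA.ClosedPush.faithful (i := e)
  obtain ⟨e1⟩ := nonempty_homFunctor_iso
    (asIso ((Scheme.Modules.pullbackPushforwardAdjunction e).counit.app F)) E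
  exact ⟨(homPush e ((Scheme.Modules.pushforward e).obj F)).app E ≪≫ (Scheme.Modules.pushforward e).mapIso e1⟩

/-- `Hom(O, E) ≅ E`. -/
theorem nonempty_homUnit (E : X.Modules) :
    Nonempty ((homFunctor (Coh.structureModule X)).obj E ≅ E) := by
  let adj : tensorRight (𝟙_ X.Modules) ⊣ homFunctor (Coh.structureModule X) := tensorRightHomAdj _
  let adj' : 𝟭 X.Modules ⊣ homFunctor (Coh.structureModule X) :=
    adj.ofNatIsoLeft (NatIso.ofComponents (fun M => ρ_ M) (fun g => rightUnitor_naturality g))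
  exact ⟨(adj'.rightAdjointUniq Adjunction.id).app E⟩

/-- `extSh` is the derived functor of `homFunctor`. -/
theorem nonempty_extSh (M N : X.Modules) [ModSite.HasSheafHom (O := X.sheaf) M]
    [HasInjectiveResolutions (ModSite.Mod X.sheaf)] [HasInjectiveResolutions X.Modules] (q : ℕ) :
    Nonempty (((ModSite.extSh (O := X.sheaf) M q).obj N : X.Modules) ≅ ((homFunctor M).rightDerived q).obj N) := by
  let I : InjectiveResolution N := injectiveResolution N
  exact ⟨K274.ShBridge.extShObjIso q I (flipAdj M) ≪≫ (I.isoRightDerivedObj (homFunctor M) q).symm⟩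

/-- **Duality in the top degree.** -/
theorem nonempty_top_push [IsNoetherian Y] [IsProper f] [DCoh.HasRpush f] [HasInjectiveResolutions X.Modules]
    [HasInjectiveResolutions Y.Modules] (r : ℕ)
    (hr : ∀ y : Y, topologicalKrullDim ↥(f.fiber y) ≤ (r : WithBot ℕ∞)) {G : Y.Modules} (hG : Coh.IsQCoh G)
    {L : DCoh.D X} (h : Univ f (DCoh.inD Y G) L) {F : X.Modules} (hF : Coh.IsQCoh F) :
    Nonempty ((Scheme.Modules.pushforward f).obj ((homFunctor F).obj (DCoh.HD L (-(r : ℤ)))) ≅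
      (homFunctor ((Coh.Rpush f r).obj F)).obj G) := by
  have hLp := PerfB.LpullKit.hasLpull f
  have hGq : DCoh.IsQCohD (DCoh.inD Y G) := PerfA.QCohD.isQCohD_inD G hG
  have hG0 : (DCoh.inD Y G).IsGE 0 := inferInstance
  have hF0 : (DCoh.inD X F).IsLE 0 := inferInstance
  have hL := isGE_of_univ f r hr h hGq hG0
  have hRH : ((RH (DCoh.inD X F)).obj L).IsGE (-(r : ℤ)) := by
    have := isGE_RH (DCoh.inD X F) L (-(r : ℤ)) 0
    simpa using this
  obtain ⟨τ, hτ⟩ := h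
  have h1 := Groth.Agent.K477.SheafDual.isIso_dualMapD_of_isUniv f (PerfA.QCohD.isQCohD_inD F hF) hGq 0 hG0 hτ
  let e1 := asIso (Groth.Agent.K477.SheafDual.dualMapD f (DCoh.inD X F) τ)
  obtain ⟨e2⟩ := nonempty_low_push f ((RH (DCoh.inD X F)).obj L) (-(r : ℤ)) hRH
  obtain ⟨e3⟩ := nonempty_low F L (-(r : ℤ)) hL
  obtain ⟨e4⟩ := nonempty_top ((DCoh.Rpush f).obj (DCoh.inD X F)) (r : ℤ) (isLE_Rpush f r hr F hF) G
  obtain ⟨e5⟩ := nonempty_homFunctor_iso (PerfC.RpushSingle.iso f r F) G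
  exact ⟨(Scheme.Modules.pushforward f).mapIso e3.symm ≪≫ e2.symm ≪≫
    (homologyFunctor Y.Modules (-(r : ℤ))).mapIso e1 ≪≫ e4 ≪≫ e5⟩

/-- `e_* H^{-r}(e^! N[n]) ≅ Ext^{n-r}(e_* O, N)`. -/
theorem nonempty_ext_push {P : Scheme.{u}} [IsNoetherian P] (e : X ⟶ P) [IsClosedImmersion e]
    [HasInjectiveResolutions X.Modules] [HasInjectiveResolutions P.Modules] (n r : ℕ) (hrn : r ≤ n)
    {N : P.Modules} (hN : Coh.IsQCoh N) [DCoh.HasRpush e] {L : DCoh.D X}
    (h : Univ e ((DCoh.inD P N)⟦(n : ℤ)⟧) L) (hL : L.IsGE (-(r : ℤ))) :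
    Nonempty ((Scheme.Modules.pushforward e).obj (DCoh.HD L (-(r : ℤ))) ≅
      ((homFunctor ((Scheme.Modules.pushforward e).obj (Coh.structureModule X))).rightDerived (n - r)).obj N) := by
  have hLp := PerfB.LpullKit.hasLpull e
  have hOq : Coh.IsQCoh (Coh.structureModule X) := Ega2.QCohLocal.isQCoh_structureModule X
  have hKq : DCoh.IsQCohD ((DCoh.inD P N)⟦(n : ℤ)⟧) :=
    PerfA.QCohD.isQCohD_shift (PerfA.QCohD.isQCohD_inD N hN) n
  have hK0 : ((DCoh.inD P N)⟦(n : ℤ)⟧).IsGE (-(n : ℤ)) :=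
    DerivedCategory.TStructure.t.isGE_shift _ 0 (n : ℤ) (-(n : ℤ)) (by lia)
  have hF0 : (DCoh.inD X (Coh.structureModule X)).IsLE 0 := inferInstance
  have hRH : ((RH (DCoh.inD X (Coh.structureModule X))).obj L).IsGE (-(r : ℤ)) := by
    have := isGE_RH (DCoh.inD X (Coh.structureModule X)) L (-(r : ℤ)) 0
    simpa using this
  obtain ⟨τ, hτ⟩ := h
  have h1 := Groth.Agent.K477.SheafDual.isIso_dualMapD_of_isUniv e (PerfA.QCohD.isQCohD_inD _ hOq) hKq _ hK0 hτ
  let e1 := asIso (Groth.Agent.K477.SheafDual.dualMapD e (DCoh.inD X (Coh.structureModule X)) τ)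
  obtain ⟨e2⟩ := nonempty_low_push e ((RH (DCoh.inD X (Coh.structureModule X))).obj L) (-(r : ℤ)) hRH
  obtain ⟨e3⟩ := nonempty_low (Coh.structureModule X) L (-(r : ℤ)) hL
  obtain ⟨e3'⟩ := nonempty_homUnit (DCoh.HD L (-(r : ℤ)))
  obtain ⟨e4⟩ := PerfC.RpushCoh.nonempty_closed e (Coh.structureModule X)
  let B := (Scheme.Modules.pushforward e).obj (Coh.structureModule X)
  let e5 : (RH ((DCoh.Rpush e).obj (DCoh.inD X (Coh.structureModule X)))).obj ((DCoh.inD P N)⟦(n : ℤ)⟧) ≅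
      (RH (DerivedCategory.Q.obj ((HomologicalComplex.single P.Modules (ComplexShape.up ℤ) 0).obj B))).obj
        ((DCoh.inD P N)⟦(n : ℤ)⟧) :=
    (rhIso (e4 ≪≫ (singleFunctorIsoCompQ P.Modules 0).app B) _).symm
  obtain ⟨e6⟩ := nonempty_rhShift₂ (DerivedCategory.Q.obj
    ((HomologicalComplex.single P.Modules (ComplexShape.up ℤ) 0).obj B)) (DCoh.inD P N) (n : ℤ)
  obtain ⟨e7⟩ := hd_shift ((RH (DerivedCategory.Q.obj
    ((HomologicalComplex.single P.Modules (ComplexShape.up ℤ) 0).obj B))).obj (DCoh.inD P N)) (n : ℤ)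
      (-(r : ℤ)) ((n - r : ℕ) : ℤ) (by omega)
  obtain ⟨e8⟩ := nonempty_ext B N (n - r) _ rfl
  exact ⟨(Scheme.Modules.pushforward e).mapIso (e3'.symm ≪≫ e3.symm) ≪≫ e2.symm ≪≫
    (homologyFunctor P.Modules (-(r : ℤ))).mapIso (e1 ≪≫ e5 ≪≫ e6) ≪≫ e7 ≪≫ e8⟩

end K478.RelDual
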